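import Cfsg.Agent.Lib.Recog.SporBound.Sound
import Cfsg.Agent.Lib.Recog.SporBound.U43C.Tree0

set_option autoImplicit false
set_option maxRecDepth 20000

/-! Generated closure certificate: the centralizer of an involution in U4(3) (owner: lead). -/

namespace CfsgLib.Recog.SporBound.U43C
open CfsgLib.Recog.SporBound

noncomputable def factTree : Q (ℕ) := (.node ft7 ft15 ft23 ft30)
noncomputable def nodeTree : Q (ℕ) := ct9
noncomputable def stepTree : Q (List ℕ) := (.node st8 st16 st24 st32)
noncomputable def finalTree : Q (List ℕ) := (.node (.node et6 et13 et20 et26) (.node et33 et40 et47 et53) (.node et60 et67 et73 et79) (.node et86 et93 et99 et105))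

/-- The certificate. -/
noncomputable def cert : Cert where
  n := 1152
  nd := 1499
  nf := 3353
  kl := [0, 1, 2, 3, 4]
  facts := factTree
  cn := nodeTree
  steps := stepTree
  finals := finalTree
  rels := [[0, 0], [1, 1], [2, 2], [3, 3], [4, 4], [1, 0, 4, 1, 4, 0], [1, 3, 0, 3, 1, 0], [0, 2, 3, 0, 4, 3, 4], [1, 0, 3, 1, 3, 1, 3, 0], [1, 4, 0, 4, 0, 4, 1, 0], [1, 2, 0, 1, 2, 0, 1, 2, 1, 0, 2, 0]]
  subs := []

/-- Chains of the traced words. -/
noncomputable def closers : List ℕ := []

end CfsgLib.Recog.SporBound.U43C
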